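/-
Filtered modules over an adically complete Noetherian ring.
-/
import Mathlib.RingTheory.AdicCompletion.Basic
import Mathlib.RingTheory.Noetherian.Basic
import Mathlib.RingTheory.Finiteness.Finsupp

set_option autoImplicit false

namespace Groth.Agent.Lib.FiltMod.Complete

universe u v

variable {S : Type u} [CommRing S] (J : Ideal S) {M : Type v} [AddCommGroup M] [Module S M]

lemma exists_fg_lift (P Q : Submodule S M) (h : (P.map Q.mkQ).FG) :
    ∃ N : Submodule S M, N.FG ∧ N ≤ P ∧ P ≤ N ⊔ Q := by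
  classical
  obtain ⟨t, ht⟩ := h
  have hmem : ∀ x ∈ t, ∃ y ∈ P, Q.mkQ y = x := fun x hx =>
    Submodule.mem_map.1 (ht ▸ Submodule.subset_span hx)
  choose y hyP hy using hmem
  refine ⟨Submodule.span S (Set.range fun x : t => y x.1 x.2), Submodule.fg_span (Set.finite_range _),
    Submodule.span_le.2 (by rintro _ ⟨x, rfl⟩; exact hyP _ _), fun z hz => ?_⟩
  have h1 : Q.mkQ z ∈ (Submodule.span S (Set.range fun x : t => y x.1 x.2)).map Q.mkQ := by
    rw [Submodule.map_span, ← Set.range_comp]
    have : Set.range (Q.mkQ ∘ fun x : t => y x.1 x.2) = (t : Set (M ⧸ Q)) := by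
      ext w
      constructor
      · rintro ⟨x, rfl⟩
        simp only [Function.comp_apply, hy]
        exact x.2
      · exact fun hw => ⟨⟨w, hw⟩, hy w hw⟩
    rw [this, ht]
    exact Submodule.mem_map_of_mem hz
  obtain ⟨n, hn, hnz⟩ := Submodule.mem_map.1 h1
  rw [← sub_add_cancel z n, add_comm]
  refine Submodule.add_mem_sup hn ?_
  exact (Submodule.Quotient.eq Q).1 hnz.symm

variable {J}

/-- The successive approximation. -/
theorem eq_pow_smul [IsPrecomplete J S] (G : ℕ → Submodule S M) (hanti : Antitone G)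
    (hJ : ∀ k, J • G k ≤ G (k + 1)) (hsep : ⨅ k, G k = ⊥)
    (hstep : ∀ k, G (k + 1) ≤ J • G k ⊔ G (k + 2)) {n : ℕ} (g : Fin n → M)
    (hg : ∀ i, g i ∈ G 0) (h0 : G 0 ≤ Submodule.span S (Set.range g) ⊔ G 1) (k : ℕ) :
    G k = J ^ k • Submodule.span S (Set.range g) := by
  have hpow : ∀ k l, J ^ k • G l ≤ G (l + k) := by
    intro k
    induction k with
    | zero => intro l; simp
    | succ k ih =>
      intro l
      rw [pow_succ, Submodule.mul_smul]
      refine (smul_mono_right _ (hJ l)).trans ((ih (l + 1)).trans (le_of_eq ?_))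
      rw [Nat.add_right_comm, Nat.add_assoc]
  have hN : Submodule.span S (Set.range g) ≤ G 0 := Submodule.span_le.2 (by rintro _ ⟨i, rfl⟩; exact hg i)
  have hG : ∀ k, G k ≤ J ^ k • Submodule.span S (Set.range g) ⊔ G (k + 1) := by
    intro k
    induction k with
    | zero => simpa using h0
    | succ k ih =>
      refine (hstep k).trans (sup_le ?_ le_sup_right)
      refine (smul_mono_right _ ih).trans ?_
      rw [Submodule.smul_sup, ← Submodule.mul_smul, ← pow_succ']
      exact sup_le_sup_left (hJ (k + 1)) _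
  refine le_antisymm (fun y hy => ?_) ?_
  · have step : ∀ l (z : G (k + l)), ∃ (a : Fin n → S) (z' : G (k + (l + 1))),
        (∀ i, a i ∈ J ^ (k + l)) ∧ (z : M) = (∑ i, a i • g i) + (z' : M) := by
      intro l z
      obtain ⟨u, hu, w, hw, huw⟩ := Submodule.mem_sup.1 (hG (k + l) z.2)
      obtain ⟨a, ha, hau⟩ := (Submodule.mem_ideal_smul_span_iff_exists_sum _ g u).1 hu
      refine ⟨fun i => a i, ⟨w, hw⟩, ha, ?_⟩
      rw [← huw, ← hau, Finsupp.sum_fintype]
      simp
    choose a z' ha hz' using step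
    let zs : ∀ l, G (k + l) := fun l => Nat.rec (motive := fun l => G (k + l)) ⟨y, hy⟩ (fun l z => z' l z) l
    let P : ℕ → Fin n → S := fun l i => ∑ t ∈ Finset.range l, a t (zs t) i
    have hy' : ∀ l, y = (∑ i, P l i • g i) + (zs l : M) := by
      intro l
      induction l with
      | zero => simp [P, zs]
      | succ l ih =>
        have : (zs l : M) = (∑ i, a l (zs l) i • g i) + (zs (l + 1) : M) := hz' l (zs l)
        rw [ih, this]
        simp only [P, Finset.sum_range_succ, add_smul, Finset.sum_add_distrib]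
        abel
    have htop : ∀ m, (J ^ m • ⊤ : Submodule S S) = J ^ m := fun m => by simp [Ideal.mul_top]
    have hc : ∀ i, ∀ {p q : ℕ}, p ≤ q → P p i ≡ P q i [SMOD (J ^ p • ⊤ : Submodule S S)] := by
      intro i p q hpq
      rw [SModEq.sub_mem, htop]
      have hsum : P q i - P p i = ∑ t ∈ Finset.Ico p q, a t (zs t) i := by
        simp only [P]; rw [Finset.sum_Ico_eq_sub _ hpq]
      rw [← neg_sub, hsum]
      refine neg_mem (sum_mem fun t ht => ?_)
      exact Ideal.pow_le_pow_right ((Finset.mem_Ico.1 ht).1.trans (Nat.le_add_left t k)) (ha t (zs t) i)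
    choose L hL using fun i => IsPrecomplete.prec' (I := J) (fun p => P p i) (hc i)
    have hd : ∀ l i, P l i - L i ∈ J ^ l := fun l i => by
      have := hL i l
      rwa [SModEq.sub_mem, htop] at this
    have hLk : ∀ i, L i ∈ J ^ k := fun i => by
      have h1 : P k i ∈ J ^ k := sum_mem fun t _ =>
        Ideal.pow_le_pow_right (Nat.le_add_right k t) (ha t (zs t) i)
      have := sub_mem h1 (hd k i)
      rwa [sub_sub_cancel] at this
    have hzero : y - ∑ i, L i • g i = 0 := by
      rw [← Submodule.mem_bot S, ← hsep, Submodule.mem_iInf]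
      intro l
      rw [hy' l, add_sub_right_comm, ← Finset.sum_sub_distrib]
      refine add_mem (sum_mem fun i _ => ?_) (hanti (Nat.le_add_left l k) (zs l).2)
      rw [← sub_smul]
      have := hpow l 0 (Submodule.smul_mem_smul (hd l i) (hg i))
      rwa [Nat.zero_add] at this
    rw [sub_eq_zero.1 hzero]
    exact sum_mem fun i _ => Submodule.smul_mem_smul (hLk i) (Submodule.subset_span ⟨i, rfl⟩)
  · refine (smul_mono_right _ hN).trans ((hpow k 0).trans (le_of_eq ?_))
    rw [Nat.zero_add]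

theorem main [IsNoetherianRing S] [IsPrecomplete J S]
    (F : ℤ → Submodule S M) (hF : Antitone F) (hcod : ∃ p₀ : ℤ, F p₀ = ⊤)
    (hJ : ∀ p : ℤ, J • F p ≤ F (p + 1)) (hsep : ⨅ p : ℤ, F p = ⊥) :
    (Module.Finite S M ∧ ∃ p₁ : ℤ, ∀ p : ℤ, p₁ ≤ p → J • F p = F (p + 1)) ↔
      ((∀ p : ℤ, (Submodule.map (F (p + 1)).mkQ (F p)).FG) ∧
        ∃ p₁ : ℤ, ∀ p : ℤ, p₁ ≤ p → F (p + 1) = J • F p ⊔ F (p + 2)) := by
  constructor
  · rintro ⟨hfin, p₁, h⟩
    refine ⟨fun p => (IsNoetherian.noetherian _).map _, p₁, fun p hp => ?_⟩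
    rw [h p hp, sup_eq_left.2 (hF (by omega))]
  · rintro ⟨hgr, p₁, h⟩
    let G : ℕ → Submodule S M := fun k => F (p₁ + k)
    obtain ⟨N, hN, hNle, hle⟩ := exists_fg_lift (F p₁) (F (p₁ + 1)) (hgr p₁)
    obtain ⟨n, g, hg⟩ := Submodule.fg_iff_exists_fin_generating_family.1 hN
    subst hg
    have hG0 : G 0 = F p₁ := by simp [G]
    have hG1 : G 1 = F (p₁ + 1) := by simp [G]
    have heq : ∀ k, G k = J ^ k • Submodule.span S (Set.range g) := by
      refine eq_pow_smul G (fun a b hab => hF (by omega)) (fun k => ?_) ?_ (fun k => ?_) g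
        (fun i => hG0 ▸ hNle (Submodule.subset_span ⟨i, rfl⟩)) (by rw [hG0, hG1]; exact hle)
      · refine (hJ (p₁ + k)).trans (le_of_eq ?_)
        simp only [G, Nat.cast_add, Nat.cast_one, add_assoc]
      · refine le_bot_iff.1 (hsep ▸ le_iInf fun p => ?_)
        exact (iInf_le G (p - p₁).toNat).trans (hF (by omega))
      · refine le_of_eq ?_
        have := h (p₁ + k) (by omega)
        simp only [G, Nat.cast_add, Nat.cast_one, Nat.cast_ofNat, ← add_assoc]
        exact this
    refine ⟨?_, p₁, fun p hp => ?_⟩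
    · obtain ⟨p₀, hp₀⟩ := hcod
      have hfg : ∀ j : ℕ, (F (p₁ - j)).FG := by
        intro j
        induction j with
        | zero =>
          have := heq 0
          rw [hG0, pow_zero, Ideal.one_eq_top, Submodule.top_smul] at this
          rw [Nat.cast_zero, sub_zero, this]
          exact Submodule.fg_span (Set.finite_range g)
        | succ j ih =>
          refine Submodule.fg_of_fg_map_of_fg_inf_ker (F (p₁ - (j + 1 : ℕ) + 1)).mkQ (hgr _) ?_
          rw [Submodule.ker_mkQ, inf_eq_right.2 (hF (by omega))]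
          rwa [show p₁ - (j + 1 : ℕ) + 1 = p₁ - j by omega]
      refine ⟨?_⟩
      have htop : F (p₁ - (p₁ - p₀).toNat) = ⊤ := eq_top_iff.2 (hp₀ ▸ hF (by omega))
      exact htop ▸ hfg _
    · obtain ⟨k, rfl⟩ : ∃ k : ℕ, p = p₁ + k := ⟨(p - p₁).toNat, by omega⟩
      have h1 : F (p₁ + k) = J ^ k • Submodule.span S (Set.range g) := heq k
      have h2 : F (p₁ + (k + 1 : ℕ)) = J ^ (k + 1) • Submodule.span S (Set.range g) := heq (k + 1)
      rw [Nat.cast_add, Nat.cast_one, ← add_assoc] at h2
      rw [h1, h2, ← Submodule.mul_smul, ← pow_succ']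

end Groth.Agent.Lib.FiltMod.Complete
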